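import Groth.Agent.S4179
import Groth.Agent.EtBCA.Hpull
import Groth.Prelude.Def_Frob
import Groth.Prelude.Def_FinFr

/-! iterated absolute Frobenius acts trivially on cohomology with constant coefficients -/

universe u

open CategoryTheory CategoryTheory.Limits AlgebraicGeometry Opposite CategoryTheory.Abelian

namespace Groth.Agent.FrobTriv51

set_option backward.isDefEq.respectTransparency.types false

variable (p : ℕ) [Fact p.Prime]

/-- the `e`-th iterate of the absolute Frobenius -/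
noncomputable def frobPow (X : Scheme.{u}) [FrobSch.IsCharP X p] : ℕ → (X ⟶ X)
  | 0 => 𝟙 X
  | e + 1 => frobPow X e ≫ FrobSch.frob X p

theorem frobPow_comp {X Y : Scheme.{u}} [FrobSch.IsCharP X p] [FrobSch.IsCharP Y p] (f : X ⟶ Y) :
    ∀ e : ℕ, frobPow p X e ≫ f = f ≫ frobPow p Y e
  | 0 => (Category.id_comp f).trans (Category.comp_id f).symm
  | e + 1 => by
    show (frobPow p X e ≫ FrobSch.frob X p) ≫ f = f ≫ frobPow p Y e ≫ FrobSch.frob Y p
    rw [Category.assoc, FrobSch.frob_comp, ← Category.assoc, frobPow_comp f e, Category.assoc]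

theorem frobPow_appTop (X : Scheme.{u}) [FrobSch.IsCharP X p] : ∀ (e : ℕ) (s : Γ(X, ⊤)),
    (frobPow p X e).appTop s = s ^ p ^ e
  | 0, s => by
    rw [pow_zero, pow_one]
    rfl
  | e + 1, s => by
    show (frobPow p X e).appTop ((FrobSch.frob X p).appTop s) = _
    rw [FrobSch.frob_appTop, map_pow, frobPow_appTop X e s, ← pow_mul, ← pow_succ]

theorem frobPow_spec (R : Type u) [CommRing R] [FrobSch.IsCharP (Spec (CommRingCat.of R)) p] (e : ℕ) (ψ : R →+* R)
    (hψ : ∀ r, ψ r = r ^ p ^ e) : frobPow p (Spec (CommRingCat.of R)) e = Spec.map (CommRingCat.ofHom ψ) := by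
  refine ext_of_isAffine ?_
  ext s
  rw [frobPow_appTop, ← Iso.hom_inv_id_apply (Scheme.ΓSpecIso (CommRingCat.of R)) s]
  refine Eq.trans ?_ (ConcreteCategory.congr_hom (Scheme.ΓSpecIso_inv_naturality (CommRingCat.ofHom ψ)) _)
  refine Eq.trans ?_ (congrArg (Scheme.ΓSpecIso (CommRingCat.of R)).inv (hψ _).symm)
  rw [map_pow]

variable {X : Scheme.{u}} [FrobSch.IsCharP X p] (e : ℕ)

/-- the Frobenius of etale schemes -/
noncomputable def frobEt (U : X.Etale) : U.left ⟶ U.left :=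
  haveI : FrobSch.IsCharP U.left p := FrobSch.IsCharP.of_hom (show U.left ⟶ X from U.hom) p
  frobPow p U.left e

theorem frobEt_hom (U : X.Etale) : frobEt p e U ≫ U.hom = U.hom ≫ frobPow p X e :=
  haveI : FrobSch.IsCharP U.left p := FrobSch.IsCharP.of_hom (show U.left ⟶ X from U.hom) p
  frobPow_comp p (show U.left ⟶ X from U.hom) e

theorem frobEt_nat {U V : X.Etale} (g : U ⟶ V) : frobEt p e U ≫ g.left = g.left ≫ frobEt p e V :=
  haveI : FrobSch.IsCharP U.left p := FrobSch.IsCharP.of_hom (show U.left ⟶ X from U.hom) p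
  haveI : FrobSch.IsCharP V.left p := FrobSch.IsCharP.of_hom (show V.left ⟶ X from V.hom) p
  frobPow_comp p (show U.left ⟶ V.left from g.left) e

/-- `G ⟶ φ⁻¹ G` for the Frobenius `φ` -/
noncomputable def iota : 𝟭 (EtCoh.Ab X) ⟶ EtCoh.pull (frobPow p X e) :=
  (EtCoh.pullPushAdj (frobPow p X e)).unit ≫ Functor.whiskerLeft (EtCoh.pull (frobPow p X e))
    (S4179.theta (frobPow p X e) (frobEt p e) (frobEt_hom p e) (fun _ => pullback.lift_snd _ _ _) (frobEt_nat p e))

theorem pullConst_inv_eq_iota (M : Type) [AddCommGroup M] :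
    (EtCore.pullConst (frobPow p X e) M).inv = (iota p e).app (EtCoh.const X M) := by
  let φ := frobPow p X e
  let L := EtCoh.pull φ
  refine ((EtCore.constAdj X).homEquiv _ (L.obj (EtCoh.const X M))).injective ?_
  rw [EtMVLib.homEquiv_pullConst_inv, Adjunction.homEquiv_unit]
  congr 1
  show ((EtCoh.pullPushAdj φ).unit.app (EtCoh.const X M)).hom.app (op (EtCoh.top X)) ≫
      (EtCore.pushGsecIso φ).hom.app (L.obj (EtCoh.const X M)) =
    ((EtCoh.pullPushAdj φ).unit.app (EtCoh.const X M)).hom.app (op (EtCoh.top X)) ≫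
      (L.obj (EtCoh.const X M)).obj.map (S4179.relFr φ (frobEt p e) (frobEt_hom p e) (fun _ => pullback.lift_snd _ _ _) (EtCoh.top X)).op
  congr 1
  exact congrArg (L.obj (EtCoh.const X M)).obj.map
    (congrArg Quiver.Hom.op ((EtCore.bcTopIsTerminal φ).hom_ext _ _))

variable (Λ : Type) [CommRing Λ] [Fact FinFr.PullExact.{u}]

/-- the Frobenius acts trivially on cohomology with constant coefficients -/
theorem endConstAdd_frobPow (n : ℕ) (x : EtCoh.H X (EtCoh.const X Λ) n) :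
    FinFr.endConstAdd (Λ := Λ) (frobPow p X e) n x = x := by
  have := FinFr.pullExact_out (frobPow p X e)
  show (EtCore.Hpull (frobPow p X e) (EtCoh.const X Λ) n x).comp
    (Ext.mk₀ (EtCore.pullConst (frobPow p X e) Λ).hom) (add_zero n) = x
  rw [EtMVLib.Hpull_apply, pullConst_inv_eq_iota p e ℤ]
  have h := EtMVLib.mapExactFunctor_natTrans (𝟭 (EtCoh.Ab X)) (EtCoh.pull (frobPow p X e)) (iota p e) x
  rw [EtMVLib.mapExactFunctor_id] at h
  refine (congrArg (fun z => z.comp (Ext.mk₀ (EtCore.pullConst (frobPow p X e) Λ).hom) (add_zero n)) h.symm).trans ?_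
  rw [Ext.comp_assoc_of_third_deg_zero, Ext.mk₀_comp_mk₀, ← pullConst_inv_eq_iota p e Λ, Iso.inv_hom_id]
  exact Ext.comp_mk₀_id x

omit [Fact p.Prime] [FrobSch.IsCharP X p] in
theorem pullConst_compat {Y Z : Scheme.{u}} (k : X ⟶ Y) (t : Y ⟶ Z) (f₀ : X ⟶ Z) (w : k ≫ t = f₀) :
    ((EtCore.pullComp k t).symm ≪≫ EtCore.pullCongr w).hom.app (EtCoh.const Z Λ) ≫ (EtCore.pullConst f₀ Λ).hom =
      (EtCoh.pull k).map (EtCore.pullConst t Λ).hom ≫ (EtCore.pullConst k Λ).hom := by
  subst w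
  have h := EtBCA.pullConst_comp k t Λ
  rw [Iso.inv_comp_eq] at h
  simp only [EtCore.pullCongr, Iso.trans_hom, eqToIso_refl, Iso.refl_hom, Iso.symm_hom, NatTrans.comp_app, NatTrans.id_app, Category.comp_id]
  rw [← cancel_epi ((EtCore.pullComp k t).hom.app (EtCoh.const Z Λ)), Iso.hom_inv_id_app_assoc, h]
  simp [← Functor.map_comp_assoc]

/-- `(k ≫ t)^* = k^* t^*` for endomorphisms, constant coefficients -/
theorem endConstAdd_comp {Y : Scheme.{u}} (k t : Y ⟶ Y) (n : ℕ) (x : EtCoh.H Y (EtCoh.const Y Λ) n) :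
    FinFr.endConstAdd (Λ := Λ) (k ≫ t) n x = FinFr.endConstAdd (Λ := Λ) k n (FinFr.endConstAdd (Λ := Λ) t n x) := by
  have := FinFr.pullExact_out k
  have := FinFr.pullExact_out t
  have := FinFr.pullExact_out (k ≫ t)
  show (EtCoh.HF Y n).map (EtCore.pullConst (k ≫ t) Λ).hom (EtCore.Hpull (k ≫ t) _ n x) =
    (EtCoh.HF Y n).map (EtCore.pullConst k Λ).hom (EtCore.Hpull k _ n ((EtCoh.HF Y n).map (EtCore.pullConst t Λ).hom (EtCore.Hpull t _ n x)))
  rw [EtBCA.Hpull_natural, ← EtBCA.Hpull_comp k t, ← ConcreteCategory.comp_apply, ← ConcreteCategory.comp_apply,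
    ← Functor.map_comp, ← Functor.map_comp]
  have h := pullConst_compat Λ k t (k ≫ t) rfl
  simp only [EtCore.pullCongr, Iso.trans_hom, eqToIso_refl, Iso.refl_hom, Iso.symm_hom, NatTrans.comp_app, NatTrans.id_app, Category.comp_id] at h
  rw [← h, Iso.hom_inv_id_app_assoc]

/-- transport of structure on pulled back constant sheaves -/
theorem HpullVia_const {Y Z : Scheme.{u}} (g : Y ⟶ Y) (π : Y ⟶ Z) (w : g ≫ π = π) (n : ℕ)
    (x : EtCoh.H Y ((EtCoh.pull π).obj (EtCoh.const Z Λ)) n) [PreservesFiniteLimits (EtCoh.pull g)] :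
    (EtCoh.HF Y n).map (EtCore.pullConst π Λ).hom (EtCore.HpullVia g π π w (EtCoh.const Z Λ) n x) =
      FinFr.endConstAdd (Λ := Λ) g n ((EtCoh.HF Y n).map (EtCore.pullConst π Λ).hom x) := by
  show (EtCoh.HF Y n).map _ ((EtCoh.HF Y n).map
      (((EtCore.pullComp g π).symm ≪≫ EtCore.pullCongr w).hom.app _) (EtCore.Hpull g _ n x)) =
    (EtCoh.HF Y n).map (EtCore.pullConst g Λ).hom (EtCore.Hpull g _ n ((EtCoh.HF Y n).map (EtCore.pullConst π Λ).hom x))
  rw [EtBCA.Hpull_natural, ← ConcreteCategory.comp_apply, ← ConcreteCategory.comp_apply, ← Functor.map_comp,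
    ← Functor.map_comp, pullConst_compat Λ g π π w]

end Groth.Agent.FrobTriv51
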